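-- MCI (S2132) package [A8GEN]: the 3-cycle g1 and the 7-cycle g2 generate A_8 (Jordan's theorem).
import Mathlib
import Cfsg.Agent.Lib.Helper26.MCI.Defs

set_option autoImplicit false

namespace Cfsg.Agent.Lib.Helper29.MCI

open Cfsg.Agent.Lib.Helper26.MCI Equiv

/-- A family of words in `g1`, `g2`. -/
def a8w (a j : ℕ) : Perm (Fin 8) := g2 ^ a * (g1 * g2 * (g1 * g1)) ^ j * g1

/-- The words `a8w a j` and the powers of `g2` move `(0, 1)` to every pair of distinct points. -/
theorem a8_key : ∀ c d : Fin 8, c ≠ d → ∃ a j : Fin 7,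
    ((a8w a j) 0 = c ∧ (a8w a j) 1 = d) ∨ ((g2 ^ (a : ℕ)) 0 = c ∧ (g2 ^ (a : ℕ)) 1 = d) := by
  decide

theorem a8_three : Perm.IsThreeCycle g1 := by
  have e : g1 = swap 1 0 * swap 1 2 := by
    unfold g1
    rw [swap_comm]
  rw [e]
  exact Perm.isThreeCycle_swap_mul_swap_same (by decide) (by decide) (by decide)

/-- **[A8GEN]** -/
theorem pkgA8Gen : PkgA8Gen := by
  unfold PkgA8Gen
  have h1 : g1 ∈ Subgroup.closure ({g1, g2} : Set (Perm (Fin 8))) :=
    Subgroup.subset_closure (by simp)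
  have h2 : g2 ∈ Subgroup.closure ({g1, g2} : Set (Perm (Fin 8))) :=
    Subgroup.subset_closure (by simp)
  apply le_antisymm
  · rw [Subgroup.closure_le]
    intro g hg
    rcases hg with rfl | rfl
    · rw [SetLike.mem_coe, Perm.mem_alternatingGroup]
      simp [g1, Perm.sign_mul, Perm.sign_swap']
    · rw [SetLike.mem_coe, Perm.mem_alternatingGroup]
      simp [g2, Perm.sign_mul, Perm.sign_swap']
  · have hw : ∀ a j : ℕ, a8w a j ∈ Subgroup.closure ({g1, g2} : Set (Perm (Fin 8))) :=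
      fun a j => mul_mem (mul_mem (pow_mem h2 _)
        (pow_mem (mul_mem (mul_mem h1 h2) (mul_mem h1 h1)) _)) h1
    have hex : ∀ c d : Fin 8, c ≠ d →
        ∃ g ∈ Subgroup.closure ({g1, g2} : Set (Perm (Fin 8))), g 0 = c ∧ g 1 = d := by
      intro c d hcd
      obtain ⟨a, j, h | h⟩ := a8_key c d hcd
      · exact ⟨_, hw a j, h⟩
      · exact ⟨_, pow_mem h2 _, h⟩
    have h2t : MulAction.IsMultiplyPretransitive
        (Subgroup.closure ({g1, g2} : Set (Perm (Fin 8)))) (Fin 8) 2 := by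
      rw [MulAction.is_two_pretransitive_iff]
      intro a b c d hab hcd
      obtain ⟨g, hg, hg0, hg1⟩ := hex a b hab
      obtain ⟨k, hk, hk0, hk1⟩ := hex c d hcd
      refine ⟨⟨k * g⁻¹, mul_mem hk (inv_mem hg)⟩, ?_, ?_⟩
      · show (k * g⁻¹) a = c
        rw [← hg0]
        simp [hk0]
      · show (k * g⁻¹) b = d
        rw [← hg1]
        simp [hk1]
    have hprim := MulAction.isPreprimitive_of_is_two_pretransitive h2t
    exact Equiv.Perm.alternatingGroup_le_of_isPreprimitive_of_isThreeCycle_mem hprim a8_three h1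

end Cfsg.Agent.Lib.Helper29.MCI
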